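import Groth.Agent.H14AlgSt.DiagGen

/-!
# Small models of big categories over schemes, and transfer along equivalences
-/

set_option autoImplicit false
set_option backward.isDefEq.respectTransparency false
set_option backward.isDefEq.respectTransparency.types false
set_option linter.style.haveILetI false

universe v₁ v₂ v₃ v₄ u₁ u₂ u₃ u₄ u

open CategoryTheory CategoryTheory.Limits AlgebraicGeometry

noncomputable section

namespace Groth.Agent.H14Small

open H14Fib H14Stk H14AlgSt

variable {S : Scheme.{u}}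

section Model

variable {𝒳 : BasedCategory.{u + 1, u + 2} (Over S)} {ι : Type (u + 1)} (o : ι → 𝒳.obj)
  [∀ i j, Small.{u} (o i ⟶ o j)]

instance : LocallySmall.{u} (InducedCategory 𝒳.obj o) :=
  ⟨fun i j => small_of_injective (α := i ⟶ j) (β := o i ⟶ o j) (f := fun m => InducedCategory.Hom.hom m)
    fun _ _ h => InducedCategory.hom_ext h⟩

/-- The small category modelled on a family of objects. -/
abbrev model : AlgSt.Cat S where
  obj := ShrinkHoms.{u + 1} (InducedCategory 𝒳.obj o)
  p := (ShrinkHoms.equivalence (InducedCategory 𝒳.obj o)).inverse ⋙ inducedFunctor o ⋙ 𝒳.p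

/-- Its functor to the ambient category. -/
abbrev incl : model o ⥤ᵇ 𝒳 where
  toFunctor := (ShrinkHoms.equivalence (InducedCategory 𝒳.obj o)).inverse ⋙ inducedFunctor o
  w := rfl

theorem incl_isEquivOver
    (hess : ∀ x : 𝒳.obj, ∃ (i : ι) (e : o i ≅ x), 𝒳.p.IsHomLift (𝟙 (𝒳.p.obj x)) e.hom) :
    FibCat.IsEquivOver (incl o) := by
  have hf : (inducedFunctor o).Full := (fullyFaithfulInducedFunctor o).full
  have hff : (inducedFunctor o).Faithful := (fullyFaithfulInducedFunctor o).faithful
  refine (isEquivOver_iff _).2 ⟨⟨?_, ?_⟩, fun x => ?_⟩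
  · exact Functor.Full.comp (ShrinkHoms.equivalence (InducedCategory 𝒳.obj o)).inverse
      (inducedFunctor o)
  · exact Functor.Faithful.comp (ShrinkHoms.equivalence (InducedCategory 𝒳.obj o)).inverse
      (inducedFunctor o)
  · obtain ⟨i, e, he⟩ := hess x
    exact ⟨(ShrinkHoms.equivalence (InducedCategory 𝒳.obj o)).functor.obj i, e, he⟩

end Model

section Transfer

variable {𝒳' : BasedCategory.{v₁, u₁} (Over S)} {𝒳 : BasedCategory.{v₂, u₂} (Over S)}
  {𝒴' : BasedCategory.{v₃, u₃} (Over S)} {𝒴 : BasedCategory.{v₄, u₄} (Over S)}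
  {P : MorphismProperty (AlgSp.Sp S)}
  {e : 𝒳' ⥤ᵇ 𝒳} {b : 𝒴' ⥤ᵇ 𝒴} {f' : 𝒳' ⥤ᵇ 𝒴'} {f : 𝒳 ⥤ᵇ 𝒴}

/-- Representability with a property is invariant under equivalences, in any universes. -/
theorem repWith_transfer (he : FibCat.IsEquivOver e) (hb : FibCat.IsEquivOver b)
    (i : BasedFunctor.comp f' b ≅ BasedFunctor.comp e f) :
    AlgSt.RepByAlgSpWith P f' ↔ AlgSt.RepByAlgSpWith P f := by
  obtain ⟨⟨_, _⟩, hs⟩ := (isEquivOver_iff _).1 he
  obtain ⟨⟨_, _⟩, -⟩ := (isEquivOver_iff _).1 hb
  constructor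
  · intro h U y
    obtain ⟨b', -, ⟨j⟩⟩ := hb
    let y' := BasedFunctor.comp y b'
    let k : BasedFunctor.comp y' b ≅ BasedFunctor.comp (BasedFunctor.id (FibCat.overCat U)) y :=
      (Stk.restr y _).mapIso j
    have := H14FibU.basedId_full (FibCat.overCat U)
    have := H14FibU.basedId_faithful (FibCat.overCat U)
    exact RepData.of_equiv P
      (E := H14FibU.fpMap (F := y) (G := f) (F' := y') (G' := f')
        (BasedFunctor.id _) e b k i)
      (H14FibU.fpMap_isEquivOver _ _ _ _ _ (H14FibU.essSurjOver_id _) hs) (Iso.refl _) (h U y')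
  · intro h U y'
    have := H14FibU.basedId_full (FibCat.overCat U)
    have := H14FibU.basedId_faithful (FibCat.overCat U)
    exact RepData.of_equiv' P
      (E := H14FibU.fpMap (F := BasedFunctor.comp y' b) (G := f) (F' := y') (G' := f')
        (BasedFunctor.id _) e b (Iso.refl _) i)
      (H14FibU.fpMap_isEquivOver _ _ _ _ _ (H14FibU.essSurjOver_id _) hs) (Iso.refl _)
      (h U (BasedFunctor.comp y' b))

end Transfer

end Groth.Agent.H14Small
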