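import Groth.Agent.H14Small.Values
import Groth.Agent.H14Small.Model
import Groth.Agent.H14SpQuot.AlgTorsor
import Groth.Agent.H14SpQuot.Stack
import Groth.Agent.H12AlgSp.Presentation
import Mathlib.CategoryTheory.ShrinkYoneda

/-!
# Small model of a quotient stack by torsors which are sheaves
-/

set_option autoImplicit false
set_option backward.isDefEq.respectTransparency false
set_option backward.isDefEq.respectTransparency.types false
set_option linter.style.haveILetI false

universe u

open CategoryTheory CategoryTheory.Limits Opposite MonoidalCategory CartesianMonoidalCategory MonObj GrpObj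
open AlgebraicGeometry AlgSt
open AlgSp (yon)

noncomputable section

namespace Groth.Agent.H14Small

open H14Fib H14AlgSt H14SpQuot

variable {S : Scheme.{u}} {B : AlgSp.Sp S} {G : Over B} [GrpObj G]
  {X : Over B} {aX : AlgSp.GAction G X}

local notation "K₀" => Scheme.fppfPrecoverage

section Transport

/-- An action transported along an isomorphism. -/
def transportAct {P P' : Over B} (a : AlgSp.GAction G P) (e : P' ≅ P) : AlgSp.GAction G P' where
  act := (G ◁ e.hom) ≫ a.act ≫ e.inv
  one_act := by
    rw [← whisker_exchange_assoc, reassoc_of% a.one_act, id_whiskerLeft]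
    simp
  mul_act := by
    rw [← whisker_exchange_assoc, reassoc_of% a.mul_act, MonoidalCategory.whiskerLeft_comp,
      MonoidalCategory.whiskerLeft_comp]
    simp only [Category.assoc]
    rw [associator_naturality_right_assoc, ← MonoidalCategory.whiskerLeft_comp_assoc G e.inv,
      e.inv_hom_id, MonoidalCategory.whiskerLeft_id, Category.id_comp]

variable {K : Precoverage Scheme.{u}}

/-- An object transported along an isomorphism of its total sheaf. -/
def transportObj (A : SpQuotObj K G aX) {P' : Over B} (e : P' ≅ A.P) : SpQuotObj K G aX where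
  base := A.base
  b := A.b
  P := P'
  act := transportAct A.act e
  π := e.hom ≫ A.π
  cart := A.cart.of_iso (whiskerLeftIso G e).symm e.symm e.symm (Iso.refl _)
    (by simp [transportAct]) (by simp) (by simp) (by simp)
  loc := by
    obtain ⟨R, hR, hs⟩ := A.loc
    refine ⟨R, hR, fun T' f hf => ?_⟩
    obtain ⟨s, h⟩ := hs f hf
    refine ⟨s ≫ e.inv.left, ?_⟩
    have h' : e.inv.left ≫ (e.hom ≫ A.π).left = A.π.left :=
      congrArg CommaMorphism.left (e.inv_hom_id_assoc A.π)
    rw [Category.assoc, h', h]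
  φ := e.hom ≫ A.φ
  eqv := by
    change ((G ◁ e.hom) ≫ A.act.act ≫ e.inv) ≫ e.hom ≫ A.φ = _
    simp only [Category.assoc, Iso.inv_hom_id_assoc]
    rw [A.eqv, ← MonoidalCategory.whiskerLeft_comp_assoc]

/-- The comparison with the transported object. -/
def transportIso (A : SpQuotObj K G aX) {P' : Over B} (e : P' ≅ A.P) : transportObj A e ≅ A where
  hom :=
    { base := 𝟙 _
      wb := by
        rw [CategoryTheory.Functor.map_id, Category.id_comp]
        rfl
      top := e.hom
      eqv := by
        change ((G ◁ e.hom) ≫ A.act.act ≫ e.inv) ≫ e.hom = _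
        simp
      cart := by
        rw [bHom_id]
        exact IsPullback.of_horiz_isIso ⟨(Category.comp_id _).symm⟩
      wφ := rfl }
  inv :=
    { base := 𝟙 _
      wb := by
        rw [CategoryTheory.Functor.map_id, Category.id_comp]
        rfl
      top := e.inv
      eqv := by
        change A.act.act ≫ e.inv = (G ◁ e.inv) ≫ (G ◁ e.hom) ≫ A.act.act ≫ e.inv
        rw [← MonoidalCategory.whiskerLeft_comp_assoc, e.inv_hom_id,
          MonoidalCategory.whiskerLeft_id, Category.id_comp]
      cart := by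
        rw [bHom_id]
        exact IsPullback.of_horiz_isIso ⟨(e.inv_hom_id_assoc A.π).trans (Category.comp_id _).symm⟩
      wφ := e.inv_hom_id_assoc A.φ }
  hom_inv_id := SpQuotObj.hom_ext (Category.id_comp _) e.hom_inv_id
  inv_hom_id := SpQuotObj.hom_ext (Category.id_comp _) e.inv_hom_id

end Transport

/-- Morphisms of torsors form a small type. -/
theorem small_hom (hB : AlgSp.IsAlgSpace B) (hG : AlgSp.IsAlgSpace G.left)
    (A A' : SpQuotObj K₀ G aX) : Small.{u} (A ⟶ A') := by
  obtain ⟨V, q, hq, hqs⟩ := (isAlgSpace_torsor hB hG A).atlas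
  have := H12AlgSp.epi_of_etale_surjective hq hqs
  have := small_yon_hom (isAlgSpace_torsor hB hG A') V
  refine small_of_injective (β := (A.base ⟶ A'.base) × ((yon S).obj V ⟶ A'.P.left))
    (f := fun m => (m.base, q ≫ m.top.left)) fun m m' h => ?_
  exact SpQuotObj.hom_ext (congrArg Prod.fst h)
    (Over.OverMorphism.ext ((cancel_epi q).1 (congrArg Prod.snd h)))

variable (G aX) in
/-- The objects whose total sheaf has values in the small universe. -/
structure Idx : Type (u + 1) where
  /-- the base -/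
  T : Over S
  /-- the values -/
  F : (Over S)ᵒᵖ ⥤ Type u
  isSheaf : Presheaf.IsSheaf (AlgSp.J S) (F ⋙ uliftFunctor.{u + 1})
  /-- the map to the base sheaf -/
  toB : (⟨F ⋙ uliftFunctor.{u + 1}, isSheaf⟩ : AlgSp.Sp S) ⟶ B
  /-- the section of the base sheaf -/
  b : (yon S).obj T ⟶ B
  /-- the action -/
  act : AlgSp.GAction G (Over.mk toB)
  /-- the structure morphism -/
  π : Over.mk toB ⟶ Over.mk b
  cart : IsPullback act.act (snd G (Over.mk toB)) π π
  loc : HasSecLoc K₀ π.left
  /-- the map to `X` -/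
  φ : Over.mk toB ⟶ X
  eqv : act.act ≫ φ = (G ◁ φ) ≫ aX.act

/-- The object of an index. -/
abbrev Idx.obj (i : Idx G aX) : (SpQuotSt K₀ G aX).obj where
  base := i.T
  b := i.b
  P := Over.mk i.toB
  act := i.act
  π := i.π
  cart := i.cart
  loc := i.loc
  φ := i.φ
  eqv := i.eqv

theorem exists_idx (hB : AlgSp.IsAlgSpace B) (hG : AlgSp.IsAlgSpace G.left)
    (A : (SpQuotSt K₀ G aX).obj) :
    ∃ (i : Idx G aX) (e : i.obj ≅ A),
      (SpQuotSt K₀ G aX).p.IsHomLift (𝟙 ((SpQuotSt K₀ G aX).p.obj A)) e.hom := by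
  have hP : AlgSp.IsAlgSpace A.P.left := isAlgSpace_torsor hB hG A
  have : ∀ T, Small.{u} (A.P.left.obj.obj T) := small_obj hP
  let F : (Over S)ᵒᵖ ⥤ Type u := FunctorToTypes.shrink.{u} A.P.left.obj
  let k : F ⋙ uliftFunctor.{u + 1} ≅ A.P.left.obj :=
    NatIso.ofComponents (fun T => Equiv.toIso (Equiv.ulift.trans (equivShrink _).symm))
      (fun f => by ext x; exact (equivShrink _).symm_apply_apply _)
  have hF : Presheaf.IsSheaf (AlgSp.J S) (F ⋙ uliftFunctor.{u + 1}) :=
    (Presheaf.isSheaf_of_iso_iff k).2 A.P.left.property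
  let kk : (⟨F ⋙ uliftFunctor.{u + 1}, hF⟩ : AlgSp.Sp S) ≅ A.P.left := ObjectProperty.isoMk _ k
  let e : Over.mk (kk.hom ≫ A.P.hom) ≅ A.P := Over.isoMk kk rfl
  let A' := transportObj A e
  exact ⟨⟨A.base, F, hF, kk.hom ≫ A.P.hom, A.b, A'.act, A'.π, A'.cart, A'.loc, A'.φ, A'.eqv⟩,
    transportIso A e, IsHomLift.of_fac' _ _ _ rfl rfl (by simp; rfl)⟩

/-- The quotient stack has a small model. -/
theorem exists_small_spQuot (hB : AlgSp.IsAlgSpace B) (hG : AlgSp.IsAlgSpace G.left) :
    ∃ (𝒳' : AlgSt.Cat S) (e : 𝒳' ⥤ᵇ SpQuotSt K₀ G aX), FibCat.IsEquivOver e := by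
  haveI : ∀ i j : Idx G aX, Small.{u} (i.obj ⟶ j.obj) := fun i j => small_hom hB hG _ _
  exact ⟨_, incl (fun i : Idx G aX => i.obj), incl_isEquivOver _ (exists_idx hB hG)⟩

end Groth.Agent.H14Small
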