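import Groth.Agent.H13AlgSp.Cover
import Mathlib.AlgebraicGeometry.Sites.AffineEtale

/-!
# Algebraic spaces have small sets of sections
-/

set_option autoImplicit false
set_option backward.isDefEq.respectTransparency false
set_option backward.isDefEq.respectTransparency.types false

universe u

open CategoryTheory CategoryTheory.Limits Opposite AlgebraicGeometry
open AlgSp (yon)

noncomputable section

namespace Groth.Agent.H14Small

variable {S : Scheme.{u}}

/-- A choice, for every point of a scheme, of an affine etale neighbourhood mapping to `U`. -/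
abbrev NbhdData (T U : Over S) : Type u :=
  T.left → Σ e : SmallModel.{u} T.left.AffineEtale,
    ((AlgebraicGeometry.Scheme.AffineEtale.Spec T.left).obj
      ((equivSmallModel.{u} T.left.AffineEtale).inverse.obj e)).left ⟶ U.left

variable {T U : Over S}

/-- The etale scheme over `T` of an index. -/
abbrev nbhd (e : SmallModel.{u} T.left.AffineEtale) : Over S :=
  Over.mk (((AlgebraicGeometry.Scheme.AffineEtale.Spec T.left).obj
      ((equivSmallModel.{u} T.left.AffineEtale).inverse.obj e)).hom ≫ T.hom)

/-- Its map to `T`. -/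
abbrev nbhdMap (e : SmallModel.{u} T.left.AffineEtale) : nbhd e ⟶ T :=
  Over.homMk ((AlgebraicGeometry.Scheme.AffineEtale.Spec T.left).obj
    ((equivSmallModel.{u} T.left.AffineEtale).inverse.obj e)).hom rfl

/-- A section is described by a datum. -/
def Describes {F : AlgSp.Sp S} (p : (yon S).obj U ⟶ F) (d : NbhdData T U)
    (s : (yon S).obj T ⟶ F) : Prop :=
  ∀ x : T.left, x ∈ Set.range (nbhdMap (d x).1).left ∧
    ∃ h : nbhd (d x).1 ⟶ U, h.left = (d x).2 ∧
      (yon S).map (nbhdMap (d x).1) ≫ s = (yon S).map h ≫ p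

lemma describes_unique {F : AlgSp.Sp S} (p : (yon S).obj U ⟶ F) {d : NbhdData T U}
    {s s' : (yon S).obj T ⟶ F} (hs : Describes p d s) (hs' : Describes p d s') : s = s' := by
  have he : ∀ e : SmallModel.{u} T.left.AffineEtale, Etale (nbhdMap e).left := fun e =>
    ((AlgebraicGeometry.Scheme.AffineEtale.Spec T.left).obj
      ((equivSmallModel.{u} T.left.AffineEtale).inverse.obj e)).prop
  refine H13AlgSp.hom_ext_of_cover (fun x => nbhdMap (d x).1)
    (H13AlgSp.ofArrows_mem_J _ (fun x => ?_) (fun x => ?_) fun x => ⟨x, (hs x).1⟩) fun x => ?_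
  · haveI := he (d x).1
    infer_instance
  · haveI := he (d x).1
    infer_instance
  · obtain ⟨-, h, hh, e⟩ := hs x
    obtain ⟨-, h', hh', e'⟩ := hs' x
    rw [e, e', Over.OverMorphism.ext (hh.trans hh'.symm)]

lemma exists_describes {F : AlgSp.Sp S} {p : (yon S).obj U ⟶ F} (hp : AlgSp.RepWith @Etale p)
    (hps : AlgSp.RepWith @Surjective p) (s : (yon S).obj T ⟶ F) :
    ∃ d : NbhdData T U, Describes p d s := by
  let hr := hp.1
  let E : Over S := hr.pullback s
  let q : E ⟶ T := hr.snd s
  let f : E ⟶ U := (yon S).preimage (hr.fst s)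
  haveI : Etale q.left := hp.2 s _ _ (hr.isPullback s)
  haveI : Surjective q.left := hps.2 s _ _ (hr.isPullback s)
  have H : ∀ x : T.left, ∃ (e : SmallModel.{u} T.left.AffineEtale) (g : nbhd e ⟶ E),
      g ≫ q = nbhdMap e ∧ x ∈ Set.range (nbhdMap e).left := by
    intro x
    obtain ⟨z, rfl⟩ := q.left.surjective x
    obtain ⟨_, ⟨W, hW, rfl⟩, hz, -⟩ :=
      E.left.isBasis_affineOpens.exists_subset_of_mem_open (Set.mem_univ z) isOpen_univ
    let o : T.left.AffineEtale := AlgebraicGeometry.Scheme.AffineEtale.mk (hW.fromSpec ≫ q.left)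
    let eqv := equivSmallModel.{u} T.left.AffineEtale
    let j := (AlgebraicGeometry.Scheme.AffineEtale.Spec T.left).mapIso (eqv.unitIso.app o).symm
    have hj : j.hom.left ≫ hW.fromSpec ≫ q.left =
        ((AlgebraicGeometry.Scheme.AffineEtale.Spec T.left).obj
          (eqv.inverse.obj (eqv.functor.obj o))).hom := CategoryTheory.MorphismProperty.Over.w j.hom
    have hwE : q.left ≫ T.hom = E.hom := Over.w q
    refine ⟨eqv.functor.obj o, Over.homMk (j.hom.left ≫ hW.fromSpec) ?_, Over.OverMorphism.ext ?_, ?_⟩
    · change (j.hom.left ≫ hW.fromSpec) ≫ E.hom = _ ≫ T.hom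
      rw [← hwE, ← hj]
      simp only [Category.assoc]
    · exact (Category.assoc _ _ _).trans hj
    · have hz' : z ∈ Set.range hW.fromSpec := by rw [hW.range_fromSpec]; exact hz
      obtain ⟨w, hw⟩ := hz'
      refine ⟨j.inv.left w, ?_⟩
      change ((AlgebraicGeometry.Scheme.AffineEtale.Spec T.left).obj
          (eqv.inverse.obj (eqv.functor.obj o))).hom (j.inv.left w) = q.left z
      rw [← hj]
      have hi : j.inv.left ≫ j.hom.left = 𝟙 _ :=
        congrArg (fun m => m.left) j.inv_hom_id
      have e2 : j.inv.left ≫ (j.hom.left ≫ hW.fromSpec ≫ q.left) = hW.fromSpec ≫ q.left :=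
        (Category.assoc _ _ _).symm.trans ((congrArg (· ≫ hW.fromSpec ≫ q.left) hi).trans
          (Category.id_comp _))
      exact (congrArg (fun m => m w) e2).trans (congrArg q.left hw)
  choose e g hg hx using H
  refine ⟨fun x => ⟨e x, (g x ≫ f).left⟩, fun x => ⟨hx x, g x ≫ f, rfl, ?_⟩⟩
  rw [← hg x, Functor.map_comp, Category.assoc, Functor.map_comp, Category.assoc,
    (yon S).map_preimage, hr.w s]

/-- The sections of an algebraic space over a scheme form a small type. -/
theorem small_yon_hom {F : AlgSp.Sp S} (hF : AlgSp.IsAlgSpace F) (T : Over S) :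
    Small.{u} ((yon S).obj T ⟶ F) := by
  obtain ⟨U, p, hp, hps⟩ := hF.atlas
  choose d hd using fun s => exists_describes (T := T) hp hps s
  exact small_of_injective (f := d) fun s s' h => describes_unique p (hd s) (h ▸ hd s')

/-- The values of an algebraic space are small. -/
theorem small_obj {F : AlgSp.Sp S} (hF : AlgSp.IsAlgSpace F) (T : (Over S)ᵒᵖ) :
    Small.{u} (F.obj.obj T) :=
  haveI := small_yon_hom hF T.unop
  small_of_injective (f := (AlgSp.J S).uliftYonedaEquiv.symm) (Equiv.injective _)

end Groth.Agent.H14Small
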